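import Groth.Agent.UnitsSeq.Small
import Groth.Agent.S0459

/-!
# Cohomology of the kernels of units maps
-/

set_option autoImplicit false
set_option linter.style.haveILetI false
set_option backward.isDefEq.respectTransparency false
set_option backward.isDefEq.respectTransparency.types false

universe u

open CategoryTheory CategoryTheory.Limits AlgebraicGeometry TopologicalSpace Opposite CategoryTheory.Abelian

namespace Groth.Agent.UnitsSeq

section Abstract

variable {X : TopCat.{u}}

theorem subsingleton_H_of_iso {F G : CohTop.Ab X} (e : F ≅ G) (q : ℕ) (h : Subsingleton (CohTop.H F q)) :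
    Subsingleton (CohTop.H G q) :=
  haveI := h
  Function.Surjective.subsingleton (f := Sheaf.H.map e.hom q) fun x =>
    ⟨Sheaf.H.map e.inv q x, by rw [← Sheaf.H.map_comp_apply, e.inv_hom_id, Sheaf.H.map_id_apply]⟩

theorem surjective_H_map {S : ShortComplex (CohTop.Ab X)} (hS : S.ShortExact) (q : ℕ)
    (h : Subsingleton (CohTop.H S.X₁ (q + 1))) : Function.Surjective (Sheaf.H.map S.g q) := fun x => by
  haveI := h
  obtain ⟨y, hy⟩ := Ext.covariant_sequence_exact₃ _ hS x (rfl : q + 1 = q + 1) (Subsingleton.elim _ _)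
  exact ⟨y, hy⟩

theorem subsingleton_H_mid {S : ShortComplex (CohTop.Ab X)} (hS : S.ShortExact) (q : ℕ)
    (h₁ : Subsingleton (CohTop.H S.X₁ q)) (h₃ : Subsingleton (CohTop.H S.X₃ q)) :
    Subsingleton (CohTop.H S.X₂ q) := by
  haveI := h₁
  haveI := h₃
  refine subsingleton_of_forall_eq 0 fun x => ?_
  obtain ⟨y, hy⟩ := Ext.covariant_sequence_exact₂ _ hS x (Subsingleton.elim _ _)
  rw [← hy, Subsingleton.elim y 0, Ext.zero_comp]

variable {A : Type*} [Category A] [Abelian A] {P Q R : A} (g : P ⟶ Q) (h : Q ⟶ R)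

/-- The sequence of kernels of a composite. -/
noncomputable def kerCompSeq : ShortComplex A :=
  ShortComplex.mk (kernel.lift (g ≫ h) (kernel.ι g) (by rw [kernel.condition_assoc, zero_comp]))
    (kernel.lift h (kernel.ι (g ≫ h) ≫ g) (by rw [Category.assoc, kernel.condition]))
    (by rw [← cancel_mono (kernel.ι h), Category.assoc, kernel.lift_ι, kernel.lift_ι_assoc, kernel.condition, zero_comp])

theorem shortExact_kerCompSeq [Epi g] : (kerCompSeq g h).ShortExact := by
  haveI : Mono (kerCompSeq g h).f := by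
    show Mono (kernel.lift (g ≫ h) (kernel.ι g) _)
    infer_instance
  haveI : Epi (kerCompSeq g h).g := by
    rw [epi_iff_surjective_up_to_refinements]
    intro T x
    obtain ⟨T', π, hπ, y, hy⟩ := surjective_up_to_refinements_of_epi g (x ≫ kernel.ι h)
    refine ⟨T', π, hπ, kernel.lift (g ≫ h) y (by rw [← Category.assoc, ← hy, Category.assoc, Category.assoc,
      kernel.condition, comp_zero, comp_zero]), ?_⟩
    rw [← cancel_mono (kernel.ι h)]
    show (π ≫ x) ≫ kernel.ι h = (_ ≫ kernel.lift h (kernel.ι (g ≫ h) ≫ g) _) ≫ kernel.ι h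
    rw [Category.assoc, Category.assoc, kernel.lift_ι, kernel.lift_ι_assoc, hy]
  refine { exact := ?_ }
  rw [ShortComplex.exact_iff_exact_up_to_refinements]
  intro T x hx
  have h1 : x ≫ kernel.ι (g ≫ h) ≫ g = 0 := by
    have h2 := congrArg (· ≫ kernel.ι h) hx
    simp only [Category.assoc, zero_comp] at h2
    exact (congrArg (x ≫ ·) (kernel.lift_ι h (kernel.ι (g ≫ h) ≫ g) _)).symm.trans h2
  refine ⟨T, 𝟙 T, inferInstance, kernel.lift g (x ≫ kernel.ι (g ≫ h)) (by rw [Category.assoc, h1]), ?_⟩
  rw [← cancel_mono (kernel.ι (g ≫ h))]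
  show (𝟙 T ≫ x) ≫ _ = (_ ≫ kernel.lift (g ≫ h) (kernel.ι g) _) ≫ _
  rw [Category.id_comp, Category.assoc, kernel.lift_ι, kernel.lift_ι]

end Abstract

variable {X W W' : Scheme.{u}}

theorem comap_comp (j : W' ⟶ W) (i : W ⟶ X) :
    UnitsSh.comap (j ≫ i) = UnitsSh.comap i ≫ (CohTop.push i.base).map (UnitsSh.comap j) :=
  rfl

theorem isClosedEmbedding_base (i : W ⟶ X) [IsClosedImmersion i] : Topology.IsClosedEmbedding i.base :=
  i.isClosedEmbedding

theorem subsingleton_H_push (i : W ⟶ X) [IsClosedImmersion i] (F : CohTop.Ab W.toTopCat) (q : ℕ)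
    (h : Subsingleton (CohTop.H F q)) : Subsingleton (CohTop.H ((CohTop.push i.base).obj F) q) :=
  @Equiv.subsingleton _ _ (S0459.result i.base (isClosedEmbedding_base i) F q).some.symm.toEquiv h

theorem subsingleton_H_kernel_comp (j : W' ⟶ W) (i : W ⟶ X) [IsClosedImmersion i] [Surjective i] (q : ℕ)
    (hi : Subsingleton (CohTop.H (kernel (UnitsSh.comap i)) q))
    (hj : Subsingleton (CohTop.H (kernel (UnitsSh.comap j)) q)) :
    Subsingleton (CohTop.H (kernel (UnitsSh.comap (j ≫ i))) q) := by
  haveI := epi_comap i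
  haveI : PreservesLimit (parallelPair (UnitsSh.comap j) 0) (CohTop.push i.base) :=
    haveI := LerayDegen.push_left_exact i.base
    inferInstance
  rw [comap_comp]
  exact subsingleton_H_mid (shortExact_kerCompSeq (UnitsSh.comap i) ((CohTop.push i.base).map (UnitsSh.comap j))) q hi
    (subsingleton_H_of_iso (PreservesKernel.iso (CohTop.push i.base) (UnitsSh.comap j)) q
      (subsingleton_H_push i _ q hj))

variable {W₀ : Scheme.{u}} {i : W ⟶ X} {i₀ : W₀ ⟶ X} {τ : Γ(X, ⊤)}
  [IsClosedImmersion i] [Surjective i] [IsClosedImmersion i₀]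

/-- The kernel of the units map of a small thickening. -/
noncomputable def IsSmallExt.kernelIso (h : IsSmallExt i i₀ τ) :
    (CohTop.push i₀.base).obj (funAb W₀) ≅ kernel (UnitsSh.comap i) :=
  h.shortExact.fIsKernel.conePointUniqueUpToIso (limit.isLimit _)

theorem IsSmallExt.subsingleton_H_kernel (h : IsSmallExt i i₀ τ) (q : ℕ)
    (hv : Subsingleton (Coh.HH W₀ (Coh.structureModule W₀) q)) :
    Subsingleton (CohTop.H (kernel (UnitsSh.comap i)) q) :=
  subsingleton_H_of_iso h.kernelIso q (subsingleton_H_push i₀ (funAb W₀) q hv)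

theorem IsSmallExt.surjective_H_comap (h : IsSmallExt i i₀ τ) (q : ℕ)
    (hv : Subsingleton (Coh.HH W₀ (Coh.structureModule W₀) (q + 1))) :
    Function.Surjective (Sheaf.H.map (UnitsSh.comap i) q) :=
  surjective_H_map h.shortExact q (subsingleton_H_push i₀ (funAb W₀) (q + 1) hv)

omit [IsClosedImmersion i] [Surjective i] in
theorem surjective_H_comap_of_kernel (i : W ⟶ X) [IsClosedImmersion i] [Surjective i] (q : ℕ)
    (h : Subsingleton (CohTop.H (kernel (UnitsSh.comap i)) (q + 1))) :
    Function.Surjective (Sheaf.H.map (UnitsSh.comap i) q) := by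
  haveI := epi_comap i
  exact surjective_H_map (S := ShortComplex.mk (kernel.ι (UnitsSh.comap i)) (UnitsSh.comap i) (kernel.condition _))
    { exact := ShortComplex.exact_of_f_is_kernel _ (kernelIsKernel _) } q h

end Groth.Agent.UnitsSeq
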