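import Groth.Agent.UnitsSeq.Coh
import Groth.Agent.ArtFunLib.HilbAffine
import Mathlib.RingTheory.Flat.EquationalCriterion
import Mathlib.RingTheory.Artinian.Ring

/-!
# Small thickenings from a flat family over an Artinian base
-/

set_option autoImplicit false
set_option linter.style.haveILetI false
set_option backward.isDefEq.respectTransparency false
set_option backward.isDefEq.respectTransparency.types false

universe u

open CategoryTheory CategoryTheory.Limits AlgebraicGeometry TopologicalSpace Opposite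

namespace Groth.Agent.UnitsSeq

open Groth.Agent.AModX

variable {X W W₀ : Scheme.{u}} {A : CommRingCat.{u}} (f : X ⟶ Spec A)

/-- The base ring on sections. -/
noncomputable def sc (U : X.Opens) : A →+* Γ(X, U) :=
  (f.appLE ⊤ U (fun _ _ => trivial)).hom.comp (Scheme.ΓSpecIso A).inv.hom

theorem resR_sc {U V : X.Opens} (h : V ≤ U) (a : A) : resR h (sc f U a) = sc f V a :=
  congrArg (fun g => g.hom ((Scheme.ΓSpecIso A).inv.hom a)) (f.appLE_map (U := ⊤) (fun _ _ => trivial) (homOfLE h).op)

variable {S : CommRingCat.{u}} {φ : A ⟶ S} {i : W ⟶ X} {q : W ⟶ Spec S}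

theorem app_eq_zero_iff (hφ : Function.Surjective φ) (h : IsPullback i q f (Spec.map φ)) {V : X.Opens}
    (hV : IsAffineOpen V) (a : Γ(X, V)) : i.app V a = 0 ↔ a ∈ (RingHom.ker φ.hom).map (sc f V) := by
  have h1 := (ArtFunLib.HilbAffine.ker_appLE_of_isPullback hφ h ⟨V, hV⟩ (i ⁻¹ᵁ V) rfl le_rfl).2
  rw [← Scheme.Hom.app_eq_appLE] at h1
  rw [← RingHom.mem_ker, h1]
  rfl

include f in
theorem surjective_of_nilpotent (hφ : Function.Surjective φ) (h : IsPullback i q f (Spec.map φ))
    (hn : ∀ a, φ a = 0 → IsNilpotent a) : IsClosedImmersion i ∧ Surjective i := by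
  haveI := IsClosedImmersion.spec_of_surjective φ hφ
  have hs : Surjective (Spec.map φ) := ⟨by
    intro p
    have h1 : p ∈ Set.range (PrimeSpectrum.comap φ.hom) := by
      rw [range_comap_of_surjective _ φ.hom hφ]
      exact (PrimeSpectrum.mem_zeroLocus _ _).2 fun a ha =>
        nilradical_le_prime p.asIdeal (mem_nilradical.2 (hn a ha))
    exact h1⟩
  exact ⟨MorphismProperty.of_isPullback (P := @IsClosedImmersion) h.flip inferInstance,
    MorphismProperty.of_isPullback (P := @Surjective) h.flip hs⟩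

theorem isSmallExt_of_isPullback [Flat f] {T : CommRingCat.{u}} {φ₀ : A ⟶ T} {i₀ : W₀ ⟶ X} {q₀ : W₀ ⟶ Spec T}
    (hφ : Function.Surjective φ) (h : IsPullback i q f (Spec.map φ))
    (hφ₀ : Function.Surjective φ₀) (h₀ : IsPullback i₀ q₀ f (Spec.map φ₀))
    (t : A) (hker : RingHom.ker φ.hom = Ideal.span {t}) (hann : ∀ a, φ₀ a = 0 ↔ t * a = 0) (ht : t * t = 0) :
    IsSmallExt i i₀ (sc f ⊤ t) where
  sq := by rw [← map_mul, ht, map_zero]
  ker V hV a := by
    rw [app_eq_zero_iff f hφ h hV, hker, Ideal.map_span, Set.image_singleton, Ideal.mem_span_singleton', resR_sc]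
    exact ⟨fun ⟨y, hy⟩ => ⟨y, by rw [← hy, mul_comm]⟩, fun ⟨y, hy⟩ => ⟨y, by rw [hy, mul_comm]⟩⟩
  ker₀ V hV y := by
    rw [app_eq_zero_iff f hφ₀ h₀ hV, resR_sc]
    constructor
    · intro hy
      refine Submodule.span_induction (p := fun z _ => sc f V t * z = 0) ?_ (mul_zero _)
        (fun _ _ _ _ h1 h2 => by rw [mul_add, h1, h2, add_zero])
        (fun c _ _ h1 => by rw [smul_eq_mul, mul_left_comm, h1, mul_zero]) hy
      rintro _ ⟨b, hb, rfl⟩
      rw [← map_mul, (hann b).1 hb, map_zero]
    · intro hy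
      have hflat : (sc f V).Flat :=
        (RingHom.Flat.of_bijective (ConcreteCategory.bijective_of_isIso (Scheme.ΓSpecIso A).inv)).comp
          (Flat.flat_appLE f (isAffineOpen_top _) hV _)
      letI := (sc f V).toAlgebra
      haveI : Module.Flat A Γ(X, V) := hflat
      obtain ⟨κ, a, z, hz, hza⟩ := Module.Flat.isTrivialRelation_of_sum_smul_eq_zero (R := A) (M := Γ(X, V))
        (f := fun _ : Fin 1 => t) (x := fun _ => y) (by
          simp only [Finset.univ_unique, Finset.sum_singleton]
          exact hy)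
      rw [show y = ∑ j, a 0 j • z j from hz 0]
      refine Ideal.sum_mem _ fun j _ => ?_
      show sc f V (a 0 j) * z j ∈ _
      refine Ideal.mul_mem_right _ _ (Ideal.mem_map_of_mem _ ((hann (a 0 j)).2 ?_))
      have := hza j
      simp only [Finset.univ_unique, Finset.sum_singleton] at this
      exact this

end Groth.Agent.UnitsSeq
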