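import Groth.Agent.LineLift.Kernel
import Groth.Agent.TorsPic.Root
import Groth.Agent.BigSiteLib.FppfDesc.LocExact
import Groth.Prelude.Def_UnitsSh

/-!
# The units sequence of a thickening
-/

set_option autoImplicit false
set_option linter.style.haveILetI false
set_option backward.isDefEq.respectTransparency false
set_option backward.isDefEq.respectTransparency.types false

universe u

open CategoryTheory CategoryTheory.Limits AlgebraicGeometry TopologicalSpace Opposite

namespace Groth.Agent.UnitsSeq

open Groth.Agent.AModX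

section
variable {X Z : Scheme.{u}} (i : Z ⟶ X)

/-- A section of the units sheaf as a function. -/
noncomputable abbrev uval {X : Scheme.{u}} {U : X.Opens} (s : (UnitsSh.unitsAb X).obj.obj (op U)) : Γ(X, U) :=
  (UnitsSh.unitOfSect s).val

/-- The units map on sections. -/
noncomputable abbrev comapApp (U : X.Opens) :
    (UnitsSh.unitsAb X).obj.obj (op U) →+ ((CohTop.push i.base).obj (UnitsSh.unitsAb Z)).obj.obj (op U) :=
  ((UnitsSh.comap i).hom.app (op U)).hom

theorem comapApp_eq_zero_iff {U : X.Opens} (s : (UnitsSh.unitsAb X).obj.obj (op U)) :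
    comapApp i U s = 0 ↔ i.app U (uval s) = 1 := by
  constructor
  · intro h
    exact congrArg (fun z : Additive (Γ(Z, i ⁻¹ᵁ U))ˣ => (z.toMul : Γ(Z, i ⁻¹ᵁ U))) h
  · intro h
    exact congrArg (fun v : (Γ(Z, i ⁻¹ᵁ U))ˣ => Additive.ofMul v)
      (Units.ext h : Units.map (i.app U).hom.toMonoidHom (UnitsSh.unitOfSect s) = 1)

/-- The units map of a surjective closed immersion is an epimorphism. -/
theorem epi_comap [IsClosedImmersion i] [Surjective i] : Epi (UnitsSh.comap i) := by
  rw [← Sheaf.isLocallySurjective_iff_epi' AddCommGrpCat.{u}]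
  refine ⟨fun {U} s => ?_⟩
  intro x hx
  obtain ⟨_, ⟨V, hV, rfl⟩, hxV, hVU⟩ := X.isBasis_affineOpens.exists_subset_of_mem_open (show x ∈ U from hx) U.2
  let t : (Γ(Z, i ⁻¹ᵁ V))ˣ := Units.map (resR (i.preimage_mono hVU)).toMonoidHom (show Additive (Γ(Z, i ⁻¹ᵁ U))ˣ from s).toMul
  obtain ⟨a, ha⟩ := i.app_surjective V hV (t : Γ(Z, i ⁻¹ᵁ V))
  have hau : IsUnit a := TorsPic.isUnit_of_isUnit_app i a (ha ▸ t.isUnit)
  refine ⟨V, homOfLE hVU, ⟨UnitsSh.sectOfUnit hau.unit, ?_⟩, hxV⟩
  exact congrArg (fun v : (Γ(Z, i ⁻¹ᵁ V))ˣ => Additive.ofMul v)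
    (Units.ext ha : Units.map (i.app V).hom.toMonoidHom hau.unit = t)

/-- The units sequence from its kernel. -/
theorem shortExact_comap [IsClosedImmersion i] [Surjective i] {F : CohTop.Ab X.toTopCat} (φ : F ⟶ UnitsSh.unitsAb X)
    (w : φ ≫ UnitsSh.comap i = 0) (hinj : ∀ U : X.Opens, Function.Injective (φ.hom.app (op U)))
    (hker : ∀ (U : X.Opens) (s : (UnitsSh.unitsAb X).obj.obj (op U)),
      i.app U (uval s) = 1 → ∃ f, φ.hom.app (op U) f = s) :
    (ShortComplex.mk φ (UnitsSh.comap i) w).ShortExact := by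
  haveI : Epi (UnitsSh.comap i) := epi_comap i
  haveI : Mono φ.hom := NatTrans.mono_iff_mono_app φ.hom |>.2 fun U =>
    (AddCommGrpCat.mono_iff_injective _).2 (hinj U.unop)
  haveI : Mono φ := (sheafToPresheaf _ _).mono_of_mono_map (inferInstanceAs (Mono φ.hom))
  refine { exact := BigSiteLib.FppfDesc.exact_of_locally_boundary fun U s hs => ?_ }
  obtain ⟨f, hf⟩ := hker U s ((comapApp_eq_zero_iff i s).1 hs)
  refine (Opens.grothendieckTopology X).superset_covering ?_ ((Opens.grothendieckTopology X).top_mem U)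
  rintro V k -
  exact ⟨F.obj.map k.op f, by rw [← hf]; exact ConcreteCategory.congr_hom (φ.hom.naturality k.op) f⟩

end

variable {X : Scheme.{u}} {J : X.IdealSheafData} (hJ : J ^ 2 = ⊥)

include hJ in
theorem idealSect_mul (U : X.Opens) (f g : Γ(ClSub.idealMod J, U)) :
    OmegaSh.idealSect J U f * OmegaSh.idealSect J U g = 0 :=
  LineLift.mul_eq_zero_of_app hJ (OmegaLib.subschemeι_app_idealSect J U f) (OmegaLib.subschemeι_app_idealSect J U g)

/-- One plus a section of a square-zero ideal. -/
noncomputable def oneAdd (U : X.Opens) (f : Γ(ClSub.idealMod J, U)) : (Γ(X, U))ˣ :=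
  ⟨1 + OmegaSh.idealSect J U f, 1 - OmegaSh.idealSect J U f,
    by linear_combination -(idealSect_mul hJ U f f), by linear_combination -(idealSect_mul hJ U f f)⟩

/-- The truncated exponential of a square-zero ideal. -/
noncomputable def expHom : Coh.toAb (ClSub.idealMod J) ⟶ UnitsSh.unitsAb X :=
  ⟨{ app := fun U => AddCommGrpCat.ofHom
      (AddMonoidHom.mk' (fun f => UnitsSh.sectOfUnit (oneAdd hJ U.unop f)) fun f g =>
        congrArg UnitsSh.sectOfUnit (Units.ext (by
          show 1 + OmegaSh.idealSect J U.unop (f + g) =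
            (1 + OmegaSh.idealSect J U.unop f) * (1 + OmegaSh.idealSect J U.unop g)
          rw [map_add]
          linear_combination -(idealSect_mul hJ U.unop f g))))
     naturality := fun U V k => AddCommGrpCat.hom_ext <| AddMonoidHom.ext fun f =>
        congrArg UnitsSh.sectOfUnit (Units.ext (by
          show 1 + OmegaSh.idealSect J V.unop ((ClSub.idealMod J).presheaf.map k f) =
            X.presheaf.map k (1 + OmegaSh.idealSect J U.unop f)
          rw [map_add, map_one]
          exact congrArg (1 + ·) (OmegaLib.idealSect_map J (leOfHom k.unop) f))) }⟩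

theorem expHom_comap : expHom hJ ≫ UnitsSh.comap J.subschemeι = 0 :=
  Sheaf.hom_ext (NatTrans.ext (funext fun U => AddCommGrpCat.hom_ext <| AddMonoidHom.ext fun f =>
    (comapApp_eq_zero_iff J.subschemeι _).2 (by
      show J.subschemeι.app U.unop (1 + OmegaSh.idealSect J U.unop f) = 1
      rw [map_add, map_one, OmegaLib.subschemeι_app_idealSect, add_zero])))

/-- The units sequence of a square-zero ideal. -/
theorem shortExact_expHom : (ShortComplex.mk _ _ (expHom_comap hJ)).ShortExact := by
  haveI : Surjective J.subschemeι := ⟨LineLift.surjective_ι hJ⟩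
  refine shortExact_comap J.subschemeι _ _ (fun U f g h => OmegaLib.idealSect_injective J U ?_) fun U s hs => ?_
  · have h1 : (oneAdd hJ U f : Γ(X, U)) = oneAdd hJ U g :=
      congrArg (fun z : (UnitsSh.unitsAb X).obj.obj (op U) => uval z) h
    exact add_left_cancel h1
  · obtain ⟨f, hf⟩ := OmegaLib.exists_idealSect_eq J U ((uval s) - 1) (by
      rw [map_sub, hs, map_one, sub_self])
    refine ⟨f, ?_⟩
    exact congrArg UnitsSh.sectOfUnit (Units.ext (by
      show 1 + OmegaSh.idealSect J U f = (uval s)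
      rw [hf, add_sub_cancel]))

end Groth.Agent.UnitsSeq
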