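import Groth.Agent.UnitsSeq.Over
import Mathlib.RingTheory.Nakayama

/-!
# Kernels of units maps of thickenings over an Artinian local ring
-/

set_option autoImplicit false
set_option linter.style.haveILetI false
set_option backward.isDefEq.respectTransparency false
set_option backward.isDefEq.respectTransparency.types false

universe u

open CategoryTheory CategoryTheory.Limits AlgebraicGeometry TopologicalSpace Opposite

namespace Groth.Agent.UnitsSeq

theorem isZero_kernel_comap {X W : Scheme.{u}} (i : W ⟶ X) [IsIso i] : IsZero (kernel (UnitsSh.comap i)) := by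
  haveI : ∀ U, IsIso ((UnitsSh.comap i).hom.app U) := fun U => by
    show IsIso (UnitsSh.unitsFunctor.map (i.app U.unop))
    infer_instance
  haveI : IsIso (UnitsSh.comap i).hom := NatIso.isIso_of_isIso_app _
  haveI : IsIso ((sheafToPresheaf _ _).map (UnitsSh.comap i)) := this
  haveI : IsIso (UnitsSh.comap i) := isIso_of_reflects_iso _ (sheafToPresheaf _ _)
  exact isZero_kernel_of_mono _

variable {A : Type u} [CommRing A] [IsArtinianRing A] [IsLocalRing A]

theorem isNilpotent_of_mem_maximalIdeal {a : A} (ha : a ∈ IsLocalRing.maximalIdeal A) : IsNilpotent a := by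
  obtain ⟨n, hn⟩ := IsArtinianRing.isNilpotent_jacobson_bot (R := A)
  refine ⟨n, ?_⟩
  have h1 := Ideal.pow_mem_pow ha n
  rw [← IsLocalRing.jacobson_eq_maximalIdeal ⊥ bot_ne_top] at h1
  rw [hn] at h1
  exact h1

/-- Over an Artinian local base the kernels of units maps are acyclic in a degree where functions of the
closed fibre are. -/
theorem subsingleton_H_kernel_of_artinian {X : Scheme.{u}} (f : X ⟶ Spec (CommRingCat.of A)) [Flat f]
    {W₀ : Scheme.{u}} {i₀ : W₀ ⟶ X} {q₀ : W₀ ⟶ Spec (CommRingCat.of (IsLocalRing.ResidueField A))}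
    (h₀ : IsPullback i₀ q₀ f (Spec.map (CommRingCat.ofHom (IsLocalRing.residue A))))
    (n : ℕ) (hv : Subsingleton (Coh.HH W₀ (Coh.structureModule W₀) n))
    (J : Ideal A) (hJ : J ≤ IsLocalRing.maximalIdeal A) :
    ∀ {W : Scheme.{u}} (i : W ⟶ X) (q : W ⟶ Spec (CommRingCat.of (A ⧸ J))),
      IsPullback i q f (Spec.map (CommRingCat.ofHom (Ideal.Quotient.mk J))) →
        Subsingleton (CohTop.H (kernel (UnitsSh.comap i)) n) := by
  induction J using WellFoundedLT.induction with
  | _ J IH =>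
  intro W i q h
  rcases eq_or_ne J ⊥ with rfl | hne
  · haveI : IsIso (CommRingCat.ofHom (Ideal.Quotient.mk (⊥ : Ideal A))) :=
      (ConcreteCategory.isIso_iff_bijective _).2
        ⟨fun a b hab => sub_eq_zero.1 (Ideal.mem_bot.1 (Ideal.Quotient.eq.1 hab)), Ideal.Quotient.mk_surjective⟩
    haveI : IsIso i := h.isIso_fst_of_isIso inferInstance
    exact Sheaf.subsingleton_H_of_isZero (isZero_kernel_comap i) n
  obtain ⟨I, hIJ, hmax⟩ := (IsWellFounded.wf (r := ((· > ·) : Ideal A → Ideal A → Prop))).has_min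
    {I | I < J} ⟨⊥, bot_lt_iff_ne_bot.2 hne⟩
  replace hIJ : I < J := hIJ
  have hmJ : IsLocalRing.maximalIdeal A • J ≤ I := by
    by_contra hle
    have h2 : I ⊔ IsLocalRing.maximalIdeal A • J = J := by
      rcases (sup_le (le_of_lt hIJ) (show IsLocalRing.maximalIdeal A • J ≤ J from Ideal.mul_le_right)).eq_or_lt with e | e
      · exact e
      · exact (hmax _ e (left_lt_sup.2 hle)).elim
    refine not_le_of_gt hIJ (Submodule.le_of_le_smul_of_le_jacobson_bot
      ((isNoetherian_def.1 inferInstance) J) (IsLocalRing.jacobson_eq_maximalIdeal ⊥ bot_ne_top).ge h2.ge)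
  obtain ⟨t, htJ, htI⟩ := SetLike.exists_of_lt hIJ
  have hspan : I ⊔ Ideal.span {t} = J := by
    rcases (sup_le (le_of_lt hIJ) ((Ideal.span_singleton_le_iff_mem J).2 htJ)).eq_or_lt with e | e
    · exact e
    · exact (hmax _ e (left_lt_sup.2 fun hh => htI ((Ideal.span_singleton_le_iff_mem I).1 hh))).elim
  have hIm : I ≤ IsLocalRing.maximalIdeal A := (le_of_lt hIJ).trans hJ
  let φI : CommRingCat.of A ⟶ CommRingCat.of (A ⧸ I) := CommRingCat.ofHom (Ideal.Quotient.mk I)
  let ψ : CommRingCat.of (A ⧸ I) ⟶ CommRingCat.of (A ⧸ J) := CommRingCat.ofHom (Ideal.Quotient.factor (le_of_lt hIJ))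
  let ψ₀ : CommRingCat.of (A ⧸ I) ⟶ CommRingCat.of (IsLocalRing.ResidueField A) :=
    CommRingCat.ofHom (Ideal.Quotient.lift I (IsLocalRing.residue A) fun a ha =>
      (IsLocalRing.residue_eq_zero_iff a).2 (hIm ha))
  have eψ : φI ≫ ψ = CommRingCat.ofHom (Ideal.Quotient.mk J) := rfl
  have eψ₀ : φI ≫ ψ₀ = CommRingCat.ofHom (IsLocalRing.residue A) := rfl
  have hI := IsPullback.of_hasPullback f (Spec.map φI)
  let iI := pullback.fst f (Spec.map φI)
  let fI := pullback.snd f (Spec.map φI)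
  haveI : Flat fI := MorphismProperty.of_isPullback (P := @Flat) hI inferInstance
  have e1 : i ≫ f = (q ≫ Spec.map ψ) ≫ Spec.map φI := by
    rw [Category.assoc, ← Spec.map_comp, eψ]; exact h.w
  have e0 : i₀ ≫ f = (q₀ ≫ Spec.map ψ₀) ≫ Spec.map φI := by
    rw [Category.assoc, ← Spec.map_comp, eψ₀]; exact h₀.w
  let j := pullback.lift i (q ≫ Spec.map ψ) e1
  let j₀ := pullback.lift i₀ (q₀ ≫ Spec.map ψ₀) e0
  have hj : IsPullback j q fI (Spec.map ψ) :=
    IsPullback.of_right (by rw [pullback.lift_fst, ← Spec.map_comp, eψ]; exact h) (pullback.lift_snd _ _ _) hI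
  have hj₀ : IsPullback j₀ q₀ fI (Spec.map ψ₀) :=
    IsPullback.of_right (by rw [pullback.lift_fst, ← Spec.map_comp, eψ₀]; exact h₀) (pullback.lift_snd _ _ _) hI
  have hψ : Function.Surjective ψ := fun x => by
    obtain ⟨a, rfl⟩ := Ideal.Quotient.mk_surjective x
    exact ⟨Ideal.Quotient.mk I a, rfl⟩
  have hψ₀ : Function.Surjective ψ₀ := fun x => by
    obtain ⟨a, rfl⟩ := IsLocalRing.residue_surjective x
    exact ⟨Ideal.Quotient.mk I a, rfl⟩
  obtain ⟨hc, hs⟩ := surjective_of_nilpotent f (φ := φI) Ideal.Quotient.mk_surjective hI fun a ha =>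
    isNilpotent_of_mem_maximalIdeal (hIm (Ideal.Quotient.eq_zero_iff_mem.1 ha))
  haveI : IsClosedImmersion iI := hc
  haveI : Surjective iI := hs
  obtain ⟨hc', hs'⟩ := surjective_of_nilpotent fI hψ hj fun x hx => by
    obtain ⟨a, rfl⟩ := Ideal.Quotient.mk_surjective x
    exact (isNilpotent_of_mem_maximalIdeal (hJ (Ideal.Quotient.eq_zero_iff_mem.1 hx))).map _
  haveI : IsClosedImmersion j := hc'
  haveI : Surjective j := hs'
  haveI : IsClosedImmersion (Spec.map ψ₀) := IsClosedImmersion.spec_of_surjective _ hψ₀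
  haveI : IsClosedImmersion j₀ := MorphismProperty.of_isPullback (P := @IsClosedImmersion) hj₀.flip inferInstance
  have hker : RingHom.ker ψ.hom = Ideal.span {Ideal.Quotient.mk I t} := by
    show RingHom.ker (Ideal.Quotient.factor (le_of_lt hIJ)) = _
    rw [Ideal.Quotient.factor_ker, ← hspan, Ideal.map_sup, Ideal.map_quotient_self, bot_sup_eq, Ideal.map_span,
      Set.image_singleton]
  have hann : ∀ x, ψ₀ x = 0 ↔ Ideal.Quotient.mk I t * x = 0 := by
    intro x
    obtain ⟨a, rfl⟩ := Ideal.Quotient.mk_surjective x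
    show IsLocalRing.residue A a = 0 ↔ _
    rw [IsLocalRing.residue_eq_zero_iff, ← map_mul, Ideal.Quotient.eq_zero_iff_mem]
    refine ⟨fun ha => mul_comm a t ▸ hmJ (Submodule.smul_mem_smul ha htJ), fun ha => ?_⟩
    by_contra hu
    exact htI ((Ideal.mul_unit_mem_iff_mem I (IsLocalRing.notMem_maximalIdeal.1 hu)).1 ha)
  have hsq : Ideal.Quotient.mk I t * Ideal.Quotient.mk I t = 0 := (hann _).1 ((IsLocalRing.residue_eq_zero_iff t).2 (hJ htJ))
  have hcomp := subsingleton_H_kernel_comp j iI n (IH I hIJ hIm iI fI hI)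
    ((isSmallExt_of_isPullback fI hψ hj hψ₀ hj₀ _ hker hann hsq).subsingleton_H_kernel n hv)
  rwa [show j ≫ iI = i from pullback.lift_fst _ _ _] at hcomp

end Groth.Agent.UnitsSeq
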