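import Groth.Agent.UnitsSeq.Basic

/-!
# The units sequence of a small thickening
-/

set_option autoImplicit false
set_option linter.style.haveILetI false
set_option backward.isDefEq.respectTransparency false
set_option backward.isDefEq.respectTransparency.types false

universe u

open CategoryTheory CategoryTheory.Limits AlgebraicGeometry TopologicalSpace Opposite

namespace Groth.Agent.UnitsSeq

open Groth.Agent.AModX

variable {X W W₀ : Scheme.{u}} (i : W ⟶ X) (i₀ : W₀ ⟶ X)

theorem app_resR (f : W ⟶ X) {U V : X.Opens} (h : V ≤ U) (a : Γ(X, U)) :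
    f.app V (resR h a) = resR (f.preimage_mono h) (f.app U a) :=
  congrArg (fun k => k.hom a) (f.naturality (homOfLE h).op)

/-- Functions of a scheme as an abelian sheaf. -/
noncomputable abbrev funAb (X : Scheme.{u}) : CohTop.Ab X.toTopCat := Coh.toAb (Coh.structureModule X)

/-- The map on functions of a morphism, as abelian sheaves. -/
noncomputable def addMap : funAb X ⟶ (CohTop.push i₀.base).obj (funAb W₀) :=
  ⟨{ app := fun U => AddCommGrpCat.ofHom (show Γ(X, U.unop) →+ Γ(W₀, i₀ ⁻¹ᵁ U.unop) from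
        (i₀.app U.unop).hom.toAddMonoidHom)
     naturality := fun U V k => AddCommGrpCat.hom_ext <| AddMonoidHom.ext fun a =>
        congrArg (fun g => g.hom a) (i₀.naturality k) }⟩

theorem epi_addMap [IsClosedImmersion i₀] : Epi (addMap i₀) := by
  rw [← Sheaf.isLocallySurjective_iff_epi' AddCommGrpCat.{u}]
  refine ⟨fun {U} s => ?_⟩
  intro x hx
  obtain ⟨_, ⟨V, hV, rfl⟩, hxV, hVU⟩ := X.isBasis_affineOpens.exists_subset_of_mem_open (show x ∈ U from hx) U.2
  obtain ⟨a, ha⟩ := i₀.app_surjective V hV (resR (i₀.preimage_mono hVU) s)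
  exact ⟨V, homOfLE hVU, ⟨a, ha⟩, hxV⟩

variable (τ : Γ(X, ⊤)) (hτ : τ * τ = 0)

include hτ in
theorem res_tau_mul (U : X.Opens) :
    resR (le_top : U ≤ ⊤) τ * resR (le_top : U ≤ ⊤) τ = 0 := by
  rw [← map_mul, hτ, map_zero]

/-- One plus a multiple of a square-zero function. -/
noncomputable def oneAddTau (U : X.Opens) (f : Γ(X, U)) : (Γ(X, U))ˣ :=
  ⟨1 + resR le_top τ * f, 1 - resR le_top τ * f,
    by linear_combination -(f * f) * (res_tau_mul τ hτ U), by linear_combination -(f * f) * (res_tau_mul τ hτ U)⟩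

/-- The truncated exponential along a square-zero function. -/
noncomputable def tauHom : funAb X ⟶ UnitsSh.unitsAb X :=
  ⟨{ app := fun U => AddCommGrpCat.ofHom (show Γ(X, U.unop) →+ (UnitsSh.unitsAb X).obj.obj U from
      AddMonoidHom.mk' (fun f => UnitsSh.sectOfUnit (oneAddTau τ hτ U.unop f)) fun f g =>
        congrArg UnitsSh.sectOfUnit (Units.ext (by
          show 1 + resR le_top τ * (f + g) = (1 + resR le_top τ * f) * (1 + resR le_top τ * g)
          linear_combination -(f * g) * (res_tau_mul τ hτ U.unop))))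
     naturality := fun U V k => AddCommGrpCat.hom_ext <| AddMonoidHom.ext fun f =>
        congrArg UnitsSh.sectOfUnit (Units.ext (by
          show 1 + resR (le_top : V.unop ≤ ⊤) τ * resR (leOfHom k.unop) (show Γ(X, U.unop) from f) =
            resR (leOfHom k.unop) (1 + resR (le_top : U.unop ≤ ⊤) τ * (show Γ(X, U.unop) from f))
          rw [map_add, map_one, map_mul, resR_resR])) }⟩

/-- The hypotheses of a small thickening. -/
structure IsSmallExt : Prop where
  /-- On affine opens the thinner scheme is cut out by the function. -/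
  ker : ∀ V : X.Opens, IsAffineOpen V → ∀ a : Γ(X, V), i.app V a = 0 ↔ ∃ y : Γ(X, V), a = resR le_top τ * y
  /-- On affine opens the closed fibre is cut out by the annihilator of the function. -/
  ker₀ : ∀ V : X.Opens, IsAffineOpen V → ∀ y : Γ(X, V), i₀.app V y = 0 ↔ resR le_top τ * y = 0
  /-- The function squares to zero. -/
  sq : τ * τ = 0

variable {i i₀ τ}

theorem IsSmallExt.mul_eq_zero (h : IsSmallExt i i₀ τ) {U : X.Opens} {s : Γ(X, U)} (hs : i₀.app U s = 0) :
    resR le_top τ * s = 0 := by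
  refine TopCat.Presheaf.section_ext X.sheaf _ _ _ fun x hx => ?_
  obtain ⟨_, ⟨V, hV, rfl⟩, hxV, hVU⟩ := X.isBasis_affineOpens.exists_subset_of_mem_open (show x ∈ U from hx) U.2
  have h0 : resR hVU (resR le_top τ * s) = 0 := by
    rw [map_mul, resR_resR]
    exact (h.ker₀ V hV _).1 (by rw [app_resR, hs, map_zero])
  exact ((TopCat.Presheaf.germ_res_apply X.presheaf (homOfLE hVU) x hxV _).symm.trans
    (congrArg (X.presheaf.germ V x hxV) h0)).trans ((map_zero _).trans (map_zero _).symm)

variable [IsClosedImmersion i₀]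

theorem IsSmallExt.kernel_tauHom (h : IsSmallExt i i₀ τ) : kernel.ι (addMap i₀) ≫ tauHom τ h.sq = 0 := by
  refine Sheaf.hom_ext (NatTrans.ext (funext fun U => AddCommGrpCat.hom_ext <| AddMonoidHom.ext fun s => ?_))
  refine congrArg UnitsSh.sectOfUnit (Units.ext ?_)
  show 1 + resR le_top τ * (show Γ(X, U.unop) from (kernel.ι (addMap i₀)).hom.app U s) = 1
  rw [h.mul_eq_zero, add_zero]
  exact congrArg (fun g => g.hom.app U s) (kernel.condition (addMap i₀))

/-- The truncated exponential from functions on the closed fibre. -/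
noncomputable def IsSmallExt.exp (h : IsSmallExt i i₀ τ) : (CohTop.push i₀.base).obj (funAb W₀) ⟶ UnitsSh.unitsAb X :=
  haveI := epi_addMap i₀
  Abelian.epiDesc (addMap i₀) (tauHom τ h.sq) h.kernel_tauHom

theorem IsSmallExt.addMap_exp (h : IsSmallExt i i₀ τ) : addMap i₀ ≫ h.exp = tauHom τ h.sq := by
  haveI := epi_addMap i₀
  exact Abelian.comp_epiDesc _ _ _

theorem IsSmallExt.exp_app (h : IsSmallExt i i₀ τ) {U : X.Opens} (a : Γ(X, U)) :
    h.exp.hom.app (op U) (i₀.app U a) = UnitsSh.sectOfUnit (oneAddTau τ h.sq U a) :=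
  congrArg (fun g => g.hom.app (op U) a) h.addMap_exp

theorem IsSmallExt.exp_comap [IsClosedImmersion i] (h : IsSmallExt i i₀ τ) : h.exp ≫ UnitsSh.comap i = 0 := by
  haveI := epi_addMap i₀
  rw [← cancel_epi (addMap i₀), ← Category.assoc, h.addMap_exp, comp_zero]
  refine Sheaf.hom_ext (NatTrans.ext (funext fun U => AddCommGrpCat.hom_ext <| AddMonoidHom.ext fun a => ?_))
  refine (comapApp_eq_zero_iff i _).2 ?_
  show i.app U.unop (1 + resR le_top τ * (show Γ(X, U.unop) from a)) = 1
  rw [map_add, map_one]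
  refine (congrArg (1 + ·) ?_).trans (add_zero 1)
  refine TopCat.Presheaf.section_ext W.sheaf _ _ _ fun w hw => ?_
  obtain ⟨_, ⟨V, hV, rfl⟩, hxV, hVU⟩ :=
    X.isBasis_affineOpens.exists_subset_of_mem_open (show i w ∈ U.unop from hw) U.unop.2
  have h0 : resR (i.preimage_mono hVU) (i.app U.unop (resR le_top τ * (show Γ(X, U.unop) from a))) = 0 := by
    rw [← app_resR i hVU, map_mul, resR_resR]
    exact (h.ker V hV _).2 ⟨_, rfl⟩
  exact ((TopCat.Presheaf.germ_res_apply W.presheaf (homOfLE (i.preimage_mono hVU)) w hxV _).symm.trans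
    (congrArg (W.presheaf.germ _ w hxV) h0)).trans ((map_zero _).trans (map_zero _).symm)

theorem IsSmallExt.exp_injective (h : IsSmallExt i i₀ τ) (U : X.Opens) : Function.Injective (h.exp.hom.app (op U)) := by
  refine (injective_iff_map_eq_zero (h.exp.hom.app (op U)).hom).2 fun f hf => ?_
  refine TopCat.Presheaf.section_ext W₀.sheaf (i₀ ⁻¹ᵁ U) (show Γ(W₀, i₀ ⁻¹ᵁ U) from f) 0 fun w hw => ?_
  obtain ⟨_, ⟨V, hV, rfl⟩, hxV, hVU⟩ := X.isBasis_affineOpens.exists_subset_of_mem_open (show i₀ w ∈ U from hw) U.2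
  obtain ⟨s, hs⟩ := i₀.app_surjective V hV (resR (i₀.preimage_mono hVU) f)
  have h1 : h.exp.hom.app (op V) (i₀.app V s) = 0 := by
    rw [hs]
    exact (ConcreteCategory.congr_hom (h.exp.hom.naturality (homOfLE hVU).op) f).trans
      ((congrArg ((UnitsSh.unitsAb X).obj.map (homOfLE hVU).op) hf).trans (map_zero _))
  rw [h.exp_app] at h1
  have h2 : 1 + resR le_top τ * s = 1 := congrArg (fun z : (UnitsSh.unitsAb X).obj.obj (op V) => uval z) h1
  have h0 : resR (i₀.preimage_mono hVU) (show Γ(W₀, i₀ ⁻¹ᵁ U) from f) = 0 :=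
    hs.symm.trans ((h.ker₀ V hV s).2 (left_eq_add.1 h2.symm))
  exact ((TopCat.Presheaf.germ_res_apply W₀.presheaf (homOfLE (i₀.preimage_mono hVU)) w hxV _).symm.trans
    (congrArg (W₀.presheaf.germ _ w hxV) h0)).trans ((map_zero _).trans (map_zero _).symm)

/-- The units sequence of a small thickening. -/
theorem IsSmallExt.shortExact [IsClosedImmersion i] [Surjective i] (h : IsSmallExt i i₀ τ) :
    (ShortComplex.mk h.exp (UnitsSh.comap i) h.exp_comap).ShortExact := by
  haveI : Epi (UnitsSh.comap i) := epi_comap i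
  haveI : Mono h.exp.hom := NatTrans.mono_iff_mono_app h.exp.hom |>.2 fun U =>
    (AddCommGrpCat.mono_iff_injective _).2 (h.exp_injective U.unop)
  haveI : Mono h.exp := (sheafToPresheaf _ _).mono_of_mono_map (inferInstanceAs (Mono h.exp.hom))
  refine { exact := BigSiteLib.FppfDesc.exact_of_locally_boundary fun U s hs => ?_ }
  intro x hx
  obtain ⟨_, ⟨V, hV, rfl⟩, hxV, hVU⟩ := X.isBasis_affineOpens.exists_subset_of_mem_open (show x ∈ U from hx) U.2
  have h1 : i.app V (resR hVU (uval s)) = 1 := by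
    rw [app_resR, (comapApp_eq_zero_iff i s).1 hs, map_one]
  obtain ⟨y, hy⟩ := (h.ker V hV (resR hVU (uval s) - 1)).1 (by rw [map_sub, h1, map_one, sub_self])
  refine ⟨V, homOfLE hVU, ⟨i₀.app V y, ?_⟩, hxV⟩
  refine (h.exp_app y).trans (congrArg UnitsSh.sectOfUnit (Units.ext ?_))
  show 1 + resR le_top τ * y = resR hVU (uval s)
  rw [← hy, add_sub_cancel]

end Groth.Agent.UnitsSeq
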